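import Groth.Agent.Coherent.K360.DegenHeight
import Groth.Agent.Smoothlim.Jacobian
import Mathlib.LinearAlgebra.Matrix.Rank
import Mathlib.RingTheory.LocalRing.ResidueField.Ideal

/-!
# Equations of the locus of minimal cokernel

`M` an `n × m` matrix over a local ring, `ρ` the rank of its reduction modulo the maximal ideal: there are
`(n - ρ) (m - ρ)` elements of the ring which vanish at a field valued point iff the rank of `M` at the point is at
most `ρ`.
-/

set_option autoImplicit false
universe u v

namespace K83.RankDim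

open K821.Minors

section Field

variable {K : Type*} [Field K] {n m : ℕ}

theorem exists_minor (D : Matrix (Fin n) (Fin m) K) :
    ∃ (e : Fin D.rank → Fin n) (f : Fin D.rank → Fin m), (D.submatrix e f).det ≠ 0 := by
  obtain ⟨c, e, f, hdet, hspan⟩ := Groth.Agent.Smoothlim.Jacobian.exists_minor D
  have h1 : c ≤ D.rank := by
    have h2 := Matrix.rank_submatrix_le D e f
    rwa [Matrix.rank_of_det_ne_zero hdet, Fintype.card_fin] at h2
  have h2 : D.rank ≤ c := by
    rw [D.rank_eq_finrank_span_row]
    have h3 : Submodule.span K (Set.range D.row) ≤ Submodule.span K (Set.range fun k => D.row (e k)) := by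
      rw [Submodule.span_le]
      rintro _ ⟨l, rfl⟩
      exact hspan l
    refine (Submodule.finrank_mono h3).trans ?_
    exact (finrank_range_le_card _).trans (by rw [Fintype.card_fin])
  obtain rfl : c = D.rank := le_antisymm h1 h2
  exact ⟨e, f, hdet⟩

theorem rank_le_iff (D : Matrix (Fin n) (Fin m) K) (r : ℕ) : D.rank ≤ r ↔ minorIdeal (r + 1) D = ⊥ := by
  constructor
  · intro h
    rw [eq_bot_iff, minorIdeal_le_iff]
    intro e f
    by_contra h1
    have h2 := Matrix.rank_submatrix_le D e f
    rw [Matrix.rank_of_det_ne_zero h1, Fintype.card_fin] at h2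
    omega
  · intro h
    by_contra hlt
    rw [not_le] at hlt
    obtain ⟨e, f, hdet⟩ := exists_minor D
    have h1 : (D.submatrix e f).det ∈ minorIdeal (r + 1) D :=
      minorIdeal_antitone D (Nat.succ_le_of_lt hlt) (minor_mem _ D e f)
    rw [h] at h1
    exact hdet h1

end Field

section Local

variable {R : Type u} [CommRing R] {n m ρ : ℕ}

/-- the bordered minors -/
def bord (M : Matrix (Fin n) (Fin m) R) (e : Fin ρ → Fin n) (f : Fin ρ → Fin m) (x : Fin n × Fin m) : R :=
  (M.submatrix (Fin.cons x.1 e : Fin (ρ + 1) → Fin n) (Fin.cons x.2 f : Fin (ρ + 1) → Fin m)).det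

theorem map_bord {S : Type*} [CommRing S] (φ : R →+* S) (M : Matrix (Fin n) (Fin m) R) (e : Fin ρ → Fin n)
    (f : Fin ρ → Fin m) (x : Fin n × Fin m) : φ (bord M e f x) = bord (M.map φ) e f x := by
  rw [bord, RingHom.map_det]
  rfl

/-- The elements: bordered minors of a unit minor of size the rank of the reduction; they are equations of the locus
where the rank is at most the rank at the closed point, for all field valued points. -/
theorem exists_finset [IsLocalRing R] (M : Matrix (Fin n) (Fin m) R) :
    ∃ s : Finset R, s.card ≤ (n - (M.map (IsLocalRing.residue R)).rank) * (m - (M.map (IsLocalRing.residue R)).rank) ∧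
      ∀ {L : Type v} [Field L] (φ : R →+* L),
        (∀ a ∈ s, φ a = 0) ↔ (M.map φ).rank ≤ (M.map (IsLocalRing.residue R)).rank := by
  classical
  obtain ⟨e, f, hdet⟩ := exists_minor (M.map (IsLocalRing.residue R))
  have hunit : IsUnit (M.submatrix e f).det := by
    by_contra h
    apply hdet
    have h1 : (M.submatrix e f).det ∈ IsLocalRing.maximalIdeal R := h
    have h2 := (IsLocalRing.residue_eq_zero_iff _).2 h1
    rw [RingHom.map_det] at h2
    exact h2
  let t : Finset (Fin n × Fin m) := (Finset.univ.image e)ᶜ ×ˢ (Finset.univ.image f)ᶜ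
  refine ⟨t.image (bord M e f), ?_, ?_⟩
  · refine Finset.card_image_le.trans ?_
    rw [Finset.card_product, Finset.card_compl, Finset.card_compl,
      Finset.card_image_of_injective _ (K360.DegenHeight.injective_left_of_det_ne_zero _ e f hdet),
      Finset.card_image_of_injective _ (K360.DegenHeight.injective_right_of_det_ne_zero _ e f hdet)]
    simp
  · intro L _ φ
    rw [rank_le_iff]
    have hbord : ∀ i j, bord (M.map φ) e f (i, j) = ((M.map φ).submatrix
      (Fin.cons i e : Fin (_ + 1) → Fin n) (Fin.cons j f : Fin (_ + 1) → Fin m)).det := fun i j => rfl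
    constructor
    · intro h
      refine K360.DegenHeight.minorIdeal_eq_bot (M.map φ) e f ?_ fun i j => ?_
      · have h2 : ((M.map φ).submatrix e f).det = φ (M.submatrix e f).det := by
          rw [RingHom.map_det]
          rfl
        rw [h2, mem_nonZeroDivisors_iff_ne_zero]
        exact (hunit.map φ).ne_zero
      · by_cases hij : (i, j) ∈ t
        · rw [← hbord, ← map_bord]
          exact h _ (Finset.mem_image_of_mem _ hij)
        · refine K360.DegenHeight.det_cons_eq_zero _ e f i j ?_
          simp only [t, Finset.mem_product, Finset.mem_compl, Finset.mem_image, Finset.mem_univ, true_and,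
            not_and_or, not_not] at hij
          exact hij
    · rintro h a ha
      obtain ⟨⟨i, j⟩, -, rfl⟩ := Finset.mem_image.1 ha
      rw [map_bord, hbord]
      have h1 := minor_mem _ (M.map φ) (Fin.cons i e : Fin (_ + 1) → Fin n) (Fin.cons j f : Fin (_ + 1) → Fin m)
      rw [h] at h1
      exact h1

theorem exists_family (s : Finset R) {c : ℕ} (hs : s.card ≤ c) :
    ∃ a : Fin c → R, (∀ i, a i ∈ s ∨ a i = 0) ∧ ∀ x ∈ s, ∃ i, a i = x := by
  classical
  refine ⟨fun i => if h : (i : ℕ) < s.card then (s.equivFin.symm ⟨i, h⟩ : R) else 0, fun i => ?_, fun x hx => ?_⟩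
  · by_cases h : (i : ℕ) < s.card
    · left
      simp only [h, dite_true]
      exact (s.equivFin.symm ⟨i, h⟩).2
    · right
      simp only [h, dite_false]
  · refine ⟨⟨s.equivFin ⟨x, hx⟩, (s.equivFin ⟨x, hx⟩).2.trans_le hs⟩, ?_⟩
    simp

/-- **Equations of the rank locus**, for all field valued points. -/
theorem exists_elements' [IsLocalRing R] (M : Matrix (Fin n) (Fin m) R) :
    ∃ a : Fin ((n - (M.map (IsLocalRing.residue R)).rank) * (m - (M.map (IsLocalRing.residue R)).rank)) → R,
      ∀ {L : Type v} [Field L] (φ : R →+* L),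
        (∀ i, φ (a i) = 0) ↔ (M.map φ).rank ≤ (M.map (IsLocalRing.residue R)).rank := by
  obtain ⟨s, hs, h⟩ := exists_finset.{u, v} M
  obtain ⟨a, ha, ha'⟩ := exists_family s hs
  refine ⟨a, fun {L} _ φ => ?_⟩
  rw [← h φ]
  constructor
  · intro h1 x hx
    obtain ⟨i, rfl⟩ := ha' x hx
    exact h1 i
  · intro h1 i
    rcases ha i with h2 | h2
    · exact h1 _ h2
    · rw [h2, map_zero]

/-- **Equations of the rank locus**: for all primes. -/
theorem exists_elements [IsLocalRing R] [IsNoetherianRing R] (M : Matrix (Fin n) (Fin m) R) :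
    ∃ a : Fin ((n - (M.map (IsLocalRing.residue R)).rank) * (m - (M.map (IsLocalRing.residue R)).rank)) → R,
      (∀ P : PrimeSpectrum R, (∀ i, a i ∈ P.asIdeal) ↔
        (M.map (algebraMap R (FractionRing (R ⧸ P.asIdeal)))).rank ≤ (M.map (IsLocalRing.residue R)).rank) ∧
      (∀ P : PrimeSpectrum R, (∀ i, a i ∈ P.asIdeal) ↔
        (M.map (algebraMap R P.asIdeal.ResidueField)).rank ≤ (M.map (IsLocalRing.residue R)).rank) ∧
      (∀ i, a i ∈ IsLocalRing.maximalIdeal R) ∧
      ringKrullDim R ≤ ringKrullDim (R ⧸ Ideal.span (Set.range a)) +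
        ((n - (M.map (IsLocalRing.residue R)).rank) * (m - (M.map (IsLocalRing.residue R)).rank) : ℕ) := by
  classical
  obtain ⟨a, ha⟩ := exists_elements'.{u, u} M
  have hmax : ∀ i, a i ∈ IsLocalRing.maximalIdeal R := fun i =>
    (IsLocalRing.residue_eq_zero_iff _).1 ((ha (IsLocalRing.residue R)).2 le_rfl i)
  refine ⟨a, fun P => ?_, fun P => ?_, hmax, ?_⟩
  · rw [← ha (algebraMap R (FractionRing (R ⧸ P.asIdeal)))]
    refine forall_congr' fun i => ?_
    rw [IsScalarTower.algebraMap_apply R (R ⧸ P.asIdeal) (FractionRing (R ⧸ P.asIdeal)),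
      map_eq_zero_iff _ (IsFractionRing.injective (R ⧸ P.asIdeal) (FractionRing (R ⧸ P.asIdeal)))]
    exact Ideal.Quotient.eq_zero_iff_mem.symm
  · rw [← ha (algebraMap R P.asIdeal.ResidueField)]
    refine forall_congr' fun i => ?_
    exact Ideal.algebraMap_residueField_eq_zero.symm
  · have h1 := ringKrullDim_le_ringKrullDim_quotient_add_card (Finset.univ.image a) (by
      rw [IsLocalRing.ringJacobson_eq_maximalIdeal]
      intro x hx
      obtain ⟨i, -, rfl⟩ := Finset.mem_image.1 (Finset.mem_coe.1 hx)
      exact hmax i)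
    rw [Finset.coe_image, Finset.coe_univ, Set.image_univ] at h1
    refine h1.trans ?_
    gcongr
    refine Finset.card_image_le.trans ?_
    rw [Finset.card_univ, Fintype.card_fin]

/-- The dimension of the locus: with `h = n - ρ` and the Euler characteristic `m - n` of the complex `M`. -/
theorem exists_elements_of_rank [IsLocalRing R] [IsNoetherianRing R] (M : Matrix (Fin n) (Fin m) R) (h : ℕ)
    (hh : h + (M.map (IsLocalRing.residue R)).rank = n) :
    ∃ a : Fin (h * (m + h - n)) → R,
      (∀ P : PrimeSpectrum R, (∀ i, a i ∈ P.asIdeal) ↔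
        (M.map (algebraMap R (FractionRing (R ⧸ P.asIdeal)))).rank ≤ (M.map (IsLocalRing.residue R)).rank) ∧
      (∀ P : PrimeSpectrum R, (∀ i, a i ∈ P.asIdeal) ↔
        (M.map (algebraMap R P.asIdeal.ResidueField)).rank ≤ (M.map (IsLocalRing.residue R)).rank) ∧
      (∀ i, a i ∈ IsLocalRing.maximalIdeal R) ∧
      ringKrullDim R ≤ ringKrullDim (R ⧸ Ideal.span (Set.range a)) + (h * (m + h - n) : ℕ) := by
  have h1 : n - (M.map (IsLocalRing.residue R)).rank = h := by omega
  have h2 : m - (M.map (IsLocalRing.residue R)).rank = m + h - n := by omega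
  have h3 := exists_elements M
  generalize hρ : (M.map (IsLocalRing.residue R)).rank = ρ at *
  subst h1
  rwa [h2] at h3

end Local

end K83.RankDim
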